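import Groth.Agent.Lib.ModFlat.Basic
import Groth.Agent.Lib.ModFlat.TensorSymm
import Groth.Agent.Lib.ModInv25.Basic
import Mathlib.Algebra.Category.ModuleCat.Sheaf.Quasicoherent
import Mathlib.Algebra.Category.ModuleCat.Sheaf.LocallyFree

/-! # Tensor products of presentations -/

set_option autoImplicit false
set_option linter.all false
set_option maxHeartbeats 800000
set_option backward.isDefEq.respectTransparency false
set_option backward.isDefEq.respectTransparency.types false
universe u

open CategoryTheory CategoryTheory.Limits Opposite GrothLib.SheafCoh GrothLib.ModFlat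

noncomputable section

namespace GrothLib.TensPres25

variable {C : Type u} [SmallCategory C] {J : GrothendieckTopology C} {O : Sheaf J CommRingCat.{u}}

/-- Free modules. -/
abbrev Fr (O : Sheaf J CommRingCat.{u}) (I : Type u) : ModSite.Mod O := SheafOfModules.free (R := ModSite.ringSh O) I

/-- The tensor product. -/
abbrev tn (M N : ModSite.Mod O) : ModSite.Mod O := ((ModSite.tensorBi O).obj M).obj N

theorem preservesColimits_left (M : ModSite.Mod O) :
    PreservesColimitsOfSize.{u, u} ((ModSite.tensorBi O).obj M) :=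
  haveI := preservesColimits_T M
  preservesColimits_of_natIso ((tensorSymm O).app M).symm

theorem preservesFiniteColimits_left (M : ModSite.Mod O) : PreservesFiniteColimits ((ModSite.tensorBi O).obj M) :=
  haveI := preservesColimits_left M
  PreservesColimitsOfSize.preservesFiniteColimits.{u, u} _

theorem additive_left (M : ModSite.Mod O) : ((ModSite.tensorBi O).obj M).Additive :=
  haveI := additive_T M
  Functor.additive_of_iso ((tensorSymm O).app M).symm

/-- A free module tensor a module. -/
def freeTen (I : Type u) (M : ModSite.Mod O) : tn (Fr O I) M ≅ ∐ fun _ : I => M :=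
  haveI := preservesColimits_T M
  (isColimitOfPreserves (T M) (SheafOfModules.isColimitFreeCofan (R := ModSite.ringSh O) I)).coconePointsIsoOfNatIso
    (coproductIsCoproduct (fun _ : I => M))
    (Discrete.natIso fun _ => (ModInv25.tensorUnitIso O).app M)

/-- The tensor product of two free modules is free. -/
def freeFree (I L : Type u) : tn (Fr O I) (Fr O L) ≅ Fr O (Σ _ : I, L) :=
  freeTen I (Fr O L) ≪≫
    sigmaSigmaIso (fun _ : I => L) (fun _ _ => SheafOfModules.unit (ModSite.ringSh O))

/-- Two maps out of free modules as one. -/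
def sumDesc {A B : Type u} {M : ModSite.Mod O} (a : Fr O A ⟶ M) (b : Fr O B ⟶ M) : Fr O (A ⊕ B) ⟶ M :=
  Cofan.IsColimit.desc (SheafOfModules.isColimitFreeCofan (R := ModSite.ringSh O) (A ⊕ B))
    (fun x => Sum.casesOn x (fun i => SheafOfModules.ιFree i ≫ a) (fun i => SheafOfModules.ιFree i ≫ b))

theorem sumDesc_comp_eq_zero_iff {A B : Type u} {M N : ModSite.Mod O} (a : Fr O A ⟶ M) (b : Fr O B ⟶ M)
    (h : M ⟶ N) : sumDesc a b ≫ h = 0 ↔ a ≫ h = 0 ∧ b ≫ h = 0 := by
  have hι : ∀ x, SheafOfModules.ιFree (R := ModSite.ringSh O) x ≫ sumDesc a b =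
      Sum.casesOn x (fun i => SheafOfModules.ιFree i ≫ a) (fun i => SheafOfModules.ιFree i ≫ b) := fun x =>
    Cofan.IsColimit.fac (SheafOfModules.isColimitFreeCofan (R := ModSite.ringSh O) (A ⊕ B)) _ x
  constructor
  · intro hh
    constructor
    · refine Cofan.IsColimit.hom_ext (SheafOfModules.isColimitFreeCofan (R := ModSite.ringSh O) A) _ _ fun i => ?_
      simp only [SheafOfModules.freeCofan_inj, comp_zero]
      refine (Category.assoc _ _ _).symm.trans ((congrArg (· ≫ h) (hι (Sum.inl i))).symm.trans
        ((Category.assoc _ _ _).trans ?_))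
      rw [hh, comp_zero]
    · refine Cofan.IsColimit.hom_ext (SheafOfModules.isColimitFreeCofan (R := ModSite.ringSh O) B) _ _ fun i => ?_
      simp only [SheafOfModules.freeCofan_inj, comp_zero]
      refine (Category.assoc _ _ _).symm.trans ((congrArg (· ≫ h) (hι (Sum.inr i))).symm.trans
        ((Category.assoc _ _ _).trans ?_))
      rw [hh, comp_zero]
  · rintro ⟨ha, hb⟩
    refine Cofan.IsColimit.hom_ext (SheafOfModules.isColimitFreeCofan (R := ModSite.ringSh O) (A ⊕ B)) _ _ fun x => ?_
    simp only [SheafOfModules.freeCofan_inj, comp_zero]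
    rw [← Category.assoc, hι x]
    cases x <;> simp [Category.assoc, ha, hb]

variable {P Q : ModSite.Mod O}

/-- The generators of a tensor product. -/
def genHom {I L : Type u} (π : Fr O I ⟶ P) (τ : Fr O L ⟶ Q) : Fr O (Σ _ : I, L) ⟶ tn P Q :=
  (freeFree I L).inv ≫ ((ModSite.tensorBi O).map π).app (Fr O L) ≫ ((ModSite.tensorBi O).obj P).map τ

theorem epi_genHom {I L : Type u} (π : Fr O I ⟶ P) (τ : Fr O L ⟶ Q) [Epi π] [Epi τ] : Epi (genHom π τ) := by
  have := preservesFiniteColimits_T (Fr O L)
  have := preservesFiniteColimits_left P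
  have : Epi (((ModSite.tensorBi O).map π).app (Fr O L)) := inferInstanceAs (Epi ((T (Fr O L)).map π))
  have : Epi (((ModSite.tensorBi O).obj P).map τ) := inferInstance
  unfold genHom
  infer_instance

theorem isIso_genHom {I L : Type u} (π : Fr O I ⟶ P) (τ : Fr O L ⟶ Q) [IsIso π] [IsIso τ] :
    IsIso (genHom π τ) := by
  unfold genHom
  infer_instance

/-- The generating sections of a tensor product. -/
def tensorGen (σ : SheafOfModules.GeneratingSections (R := ModSite.ringSh O) P)
    (σ' : SheafOfModules.GeneratingSections (R := ModSite.ringSh O) Q) :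
    SheafOfModules.GeneratingSections (R := ModSite.ringSh O) (tn P Q) where
  I := Σ _ : σ.I, σ'.I
  s := SheafOfModules.freeHomEquiv _ (genHom σ.π σ'.π)
  epi := by
    rw [Equiv.symm_apply_apply]
    exact epi_genHom σ.π σ'.π

theorem isIso_tensorGen_π (σ : SheafOfModules.GeneratingSections (R := ModSite.ringSh O) P)
    (σ' : SheafOfModules.GeneratingSections (R := ModSite.ringSh O) Q) [IsIso σ.π] [IsIso σ'.π] :
    IsIso (tensorGen σ σ').π := by
  change IsIso ((SheafOfModules.freeHomEquiv _).symm (SheafOfModules.freeHomEquiv _ (genHom σ.π σ'.π)))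
  rw [Equiv.symm_apply_apply]
  exact isIso_genHom σ.π σ'.π

theorem exists_presentation (p : SheafOfModules.Presentation (R := ModSite.ringSh O) P)
    (q : SheafOfModules.Presentation (R := ModSite.ringSh O) Q) :
    ∃ r : SheafOfModules.Presentation (R := ModSite.ringSh O) (tn P Q), p.IsFinite → q.IsFinite → r.IsFinite := by
  let ρ : Fr O p.relations.I ⟶ Fr O p.generators.I :=
    (SheafOfModules.freeHomEquiv _).symm p.relations.s ≫ kernel.ι p.generators.π
  let σ : Fr O q.relations.I ⟶ Fr O q.generators.I :=
    (SheafOfModules.freeHomEquiv _).symm q.relations.s ≫ kernel.ι q.generators.π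
  let π : Fr O p.generators.I ⟶ P := p.generators.π
  let τ : Fr O q.generators.I ⟶ Q := q.generators.π
  have wρ : ρ ≫ π = 0 := (Category.assoc _ _ _).trans ((congrArg (_ ≫ ·) (kernel.condition _)).trans comp_zero)
  have wσ : σ ≫ τ = 0 := (Category.assoc _ _ _).trans ((congrArg (_ ≫ ·) (kernel.condition _)).trans comp_zero)
  have : Epi π := inferInstanceAs (Epi p.generators.π)
  have : Epi τ := inferInstanceAs (Epi q.generators.π)
  have hP : (ShortComplex.mk ρ π wρ).Exact := ShortComplex.exact_of_g_is_cokernel _ p.isColimit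
  have hQ : (ShortComplex.mk σ τ wσ).Exact := ShortComplex.exact_of_g_is_cokernel _ q.isColimit
  let FI := Fr O p.generators.I
  let FL := Fr O q.generators.I
  let FR := Fr O p.relations.I
  let a : tn FR FL ⟶ tn FI FL := ((ModSite.tensorBi O).map ρ).app FL
  let b : tn FI (Fr O q.relations.I) ⟶ tn FI FL := ((ModSite.tensorBi O).obj FI).map σ
  let g : tn FI FL ⟶ tn P Q := ((ModSite.tensorBi O).map π).app FL ≫ ((ModSite.tensorBi O).obj P).map τ
  have := additive_T FL
  have := additive_T Q
  have := additive_left FI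
  have := additive_left P
  have := preservesFiniteColimits_T Q
  have := preservesFiniteColimits_left FI
  have := preservesFiniteColimits_left FR
  have := preservesFiniteColimits_T FL
  have := preservesFiniteColimits_left P
  have hg : g = ((ModSite.tensorBi O).obj FI).map τ ≫ ((ModSite.tensorBi O).map π).app Q :=
    (((ModSite.tensorBi O).map π).naturality τ).symm
  have ha : a ≫ g = 0 := by
    rw [← Category.assoc]
    change ((T FL).map ρ ≫ (T FL).map π) ≫ _ = 0
    rw [← Functor.map_comp, wρ, Functor.map_zero, zero_comp]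
  have hb : b ≫ g = 0 := by
    rw [hg, ← Category.assoc]
    change (((ModSite.tensorBi O).obj FI).map σ ≫ _) ≫ _ = 0
    rw [← Functor.map_comp, wσ, Functor.map_zero, zero_comp]
  have : Epi g := by
    have : Epi (((ModSite.tensorBi O).map π).app FL) := inferInstanceAs (Epi ((T FL).map π))
    have : Epi (((ModSite.tensorBi O).obj P).map τ) := inferInstance
    exact epi_comp _ _
  let f := sumDesc ((freeFree p.relations.I q.generators.I).inv ≫ a ≫ (freeFree _ _).hom)
    ((freeFree p.generators.I q.relations.I).inv ≫ b ≫ (freeFree _ _).hom)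
  have w : f ≫ (freeFree _ _).inv ≫ g = 0 := by
    rw [sumDesc_comp_eq_zero_iff]
    simp [ha, hb]
  have key : ∀ {N : ModSite.Mod O} (h : tn FI FL ⟶ N), a ≫ h = 0 → b ≫ h = 0 → ∃ l, g ≫ l = h := by
    intro N h h1 h2
    have e1 := (hQ.map_of_epi_of_preservesCokernel ((ModSite.tensorBi O).obj FI) inferInstance inferInstance)
    have : Epi (((ModSite.tensorBi O).obj FI).map τ) := inferInstance
    have : Epi ((ShortComplex.mk σ τ wσ).map ((ModSite.tensorBi O).obj FI)).g := this
    obtain ⟨l₁, hl₁⟩ : ∃ l₁, ((ModSite.tensorBi O).obj FI).map τ ≫ l₁ = h := ⟨_, e1.g_desc h h2⟩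
    have e2 := (hP.map_of_epi_of_preservesCokernel (T Q) inferInstance inferInstance)
    have : Epi ((T Q).map π) := inferInstance
    have : Epi ((ShortComplex.mk ρ π wρ).map (T Q)).g := this
    have h3 : (T Q).map ρ ≫ l₁ = 0 := by
      have : Epi (((ModSite.tensorBi O).obj FR).map τ) := inferInstance
      rw [← cancel_epi (((ModSite.tensorBi O).obj FR).map τ), comp_zero]
      change ((ModSite.tensorBi O).obj FR).map τ ≫ ((ModSite.tensorBi O).map ρ).app Q ≫ l₁ = 0
      rw [← Category.assoc, ((ModSite.tensorBi O).map ρ).naturality τ, Category.assoc, hl₁]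
      exact h1
    obtain ⟨l, hl⟩ : ∃ l, (T Q).map π ≫ l = l₁ := ⟨_, e2.g_desc l₁ h3⟩
    refine ⟨l, ?_⟩
    rw [hg, Category.assoc]
    exact (congrArg (((ModSite.tensorBi O).obj FI).map τ ≫ ·) hl).trans hl₁
  have hlift : ∀ {N : ModSite.Mod O} (h : Fr O (Σ _ : p.generators.I, q.generators.I) ⟶ N), f ≫ h = 0 →
      ∃ l, ((freeFree _ _).inv ≫ g) ≫ l = h := by
    intro N h hh
    rw [sumDesc_comp_eq_zero_iff] at hh
    obtain ⟨l, hl⟩ := key ((freeFree _ _).hom ≫ h) (by simpa using hh.1) (by simpa using hh.2)
    exact ⟨l, by rw [Category.assoc, hl, Iso.inv_hom_id_assoc]⟩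
  have : Epi ((freeFree p.generators.I q.generators.I).inv ≫ g) := epi_comp _ _
  refine ⟨SheafOfModules.presentationOfIsCokernelFree f ((freeFree _ _).inv ≫ g) w
    (CokernelCofork.IsColimit.ofπ _ _ (fun h hh => (hlift h hh).choose) (fun h hh => (hlift h hh).choose_spec)
      fun h hh m hm => by rw [← cancel_epi ((freeFree _ _).inv ≫ g), hm, (hlift h hh).choose_spec]), fun hp hq => ?_⟩
  have h1 : Finite p.generators.I := hp.isFiniteType_generators.finite
  have h2 : Finite p.relations.I := hp.isFiniteType_relations.finite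
  have h3 : Finite q.generators.I := hq.isFiniteType_generators.finite
  have h4 : Finite q.relations.I := hq.isFiniteType_relations.finite
  exact
    { isFiniteType_generators := ⟨inferInstanceAs (Finite (Σ _ : p.generators.I, q.generators.I))⟩
      isFiniteType_relations := ⟨inferInstanceAs
        (Finite ((Σ _ : p.relations.I, q.generators.I) ⊕ (Σ _ : p.generators.I, q.relations.I)))⟩ }

end GrothLib.TensPres25
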