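import Groth.Agent.Lib.TensPres25.Basic
import Groth.Agent.Lib.ModExtZero.KFlat

/-! # Tensor products of locally presented modules -/

set_option autoImplicit false
set_option linter.all false
set_option maxHeartbeats 800000
set_option backward.isDefEq.respectTransparency false
set_option backward.isDefEq.respectTransparency.types false
universe u

open CategoryTheory CategoryTheory.Limits Opposite GrothLib.SheafCoh

noncomputable section

namespace GrothLib.TensPres25

variable {C : Type u} [SmallCategory C] [HasBinaryProducts C] [HasPullbacks C] {J : GrothendieckTopology C}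
  {O : Sheaf J CommRingCat.{u}}

/-- Generators restricted along a map. -/
def restrictGen {U V : C} (r : V ⟶ U) {M : ModSite.Mod O}
    (σ : SheafOfModules.GeneratingSections (R := (ModSite.ringSh O).over U) (M.over U)) :
    SheafOfModules.GeneratingSections (R := (ModSite.ringSh O).over V) (M.over V) :=
  (σ.map (SheafOfModules.overMap (ModSite.ringSh O) r) (SheafOfModules.overMapUnitIso r).symm).ofEpi
    ((SheafOfModules.overFunctorMap (ModSite.ringSh O) r).hom.app M)

theorem isIso_restrictGen_π {U V : C} (r : V ⟶ U) {M : ModSite.Mod O}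
    (σ : SheafOfModules.GeneratingSections (R := (ModSite.ringSh O).over U) (M.over U)) [IsIso σ.π] :
    IsIso (restrictGen r σ).π := by
  unfold restrictGen
  rw [SheafOfModules.GeneratingSections.ofEpi_π, SheafOfModules.GeneratingSections.map_π_eq]
  exact @IsIso.comp_isIso _ _ _ _ _ _ _
    (@IsIso.comp_isIso _ _ _ _ _ _ _ (Iso.isIso_hom _) (Functor.map_isIso _ _)) (NatIso.hom_app_isIso _ M)

/-- A presentation restricted along a map. -/
def restrictPres {U V : C} (r : V ⟶ U) {M : ModSite.Mod O}
    (p : SheafOfModules.Presentation (R := (ModSite.ringSh O).over U) (M.over U)) :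
    SheafOfModules.Presentation (R := (ModSite.ringSh O).over V) (M.over V) :=
  (p.map (SheafOfModules.overMap (ModSite.ringSh O) r) (SheafOfModules.overMapUnitIso r).symm).ofIsIso
    ((SheafOfModules.overFunctorMap (ModSite.ringSh O) r).hom.app M)

theorem isFinite_restrictPres {U V : C} (r : V ⟶ U) {M : ModSite.Mod O}
    (p : SheafOfModules.Presentation (R := (ModSite.ringSh O).over U) (M.over U)) (hp : p.IsFinite) :
    (restrictPres r p).IsFinite :=
  { isFiniteType_generators := ({ finite := hp.isFiniteType_generators.finite } : (restrictPres r p).generators.IsFiniteType)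
    isFiniteType_relations := ({ finite := hp.isFiniteType_relations.finite } : (restrictPres r p).relations.IsFiniteType) }

/-- Restriction of a tensor product. -/
def overTensor (U : C) (M N : ModSite.Mod O) :
    tn (O := O.over U) (M.over U) (N.over U) ≅ (tn M N).over U :=
  (ModExtZero.restrTensorIso M N).symm

variable {F G : ModSite.Mod O}

omit [HasPullbacks C] in
theorem coversTop_prod {I L : Type*} {X : I → C} {Y : L → C} (hX : J.CoversTop X) (hY : J.CoversTop Y) :
    J.CoversTop fun p : I × L => X p.1 ⨯ Y p.2 := fun V => by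
  refine J.superset_covering ?_ (J.intersection_covering (hX V) (hY V))
  rintro W g ⟨⟨i, ⟨a⟩⟩, ⟨j, ⟨b⟩⟩⟩
  exact ⟨(i, j), ⟨prod.lift a b⟩⟩

/-- Local generators of a tensor product. -/
def tensorLocGen (q : SheafOfModules.LocalGeneratorsData.{u} (R := ModSite.ringSh O) F)
    (q' : SheafOfModules.LocalGeneratorsData.{u} (R := ModSite.ringSh O) G) :
    SheafOfModules.LocalGeneratorsData.{u} (R := ModSite.ringSh O) (tn F G) where
  I := q.I × q'.I
  X p := q.X p.1 ⨯ q'.X p.2
  coversTop := coversTop_prod q.coversTop q'.coversTop
  generators p := (tensorGen (O := O.over _) (restrictGen prod.fst (q.generators p.1))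
    (restrictGen prod.snd (q'.generators p.2))).ofEpi (overTensor _ F G).hom

theorem isFiniteType_tensor (hF : SheafOfModules.IsFiniteType (R := ModSite.ringSh O) F)
    (hG : SheafOfModules.IsFiniteType (R := ModSite.ringSh O) G) :
    SheafOfModules.IsFiniteType (R := ModSite.ringSh O) (tn F G) := by
  obtain ⟨q, hq⟩ := hF.exists_localGeneratorsData
  obtain ⟨q', hq'⟩ := hG.exists_localGeneratorsData
  have hd : ∀ p : q.I × q'.I, ((tensorLocGen q q').generators p).IsFiniteType := fun p =>
    haveI : Finite (q.generators p.1).I := (hq.isFiniteType p.1).finite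
    haveI : Finite (q'.generators p.2).I := (hq'.isFiniteType p.2).finite
    ({ finite := inferInstanceAs (Finite (Σ _ : (q.generators p.1).I, (q'.generators p.2).I)) } :
      ((tensorLocGen q q').generators p).IsFiniteType)
  have hd' : (tensorLocGen q q').IsFiniteType := { isFiniteType := hd }
  exact { exists_localGeneratorsData := ⟨tensorLocGen q q', hd'⟩ }

theorem isLocallyFree_tensor (hF : SheafOfModules.IsLocallyFree (R := ModSite.ringSh O) F)
    (hG : SheafOfModules.IsLocallyFree (R := ModSite.ringSh O) G) :
    SheafOfModules.IsLocallyFree (R := ModSite.ringSh O) (tn F G) := by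
  obtain ⟨q, hq⟩ := hF.exists_isLocallyFreeData
  obtain ⟨q', hq'⟩ := hG.exists_isLocallyFreeData
  have hd : ∀ p : q.I × q'.I, IsIso ((tensorLocGen q q').generators p).π := fun p => by
    have := hq.isIso p.1
    have := hq'.isIso p.2
    have := isIso_restrictGen_π (prod.fst : q.X p.1 ⨯ q'.X p.2 ⟶ _) (q.generators p.1)
    have := isIso_restrictGen_π (prod.snd : q.X p.1 ⨯ q'.X p.2 ⟶ _) (q'.generators p.2)
    have := isIso_tensorGen_π (O := O.over _) (restrictGen (prod.fst : q.X p.1 ⨯ q'.X p.2 ⟶ _) (q.generators p.1))
      (restrictGen (prod.snd : q.X p.1 ⨯ q'.X p.2 ⟶ _) (q'.generators p.2))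
    dsimp only [tensorLocGen]
    rw [SheafOfModules.GeneratingSections.ofEpi_π]
    infer_instance
  have hd' : (tensorLocGen q q').IsLocallyFreeData := { isIso := hd }
  exact { exists_isLocallyFreeData := ⟨tensorLocGen q q', hd'⟩ }

theorem exists_tensorQC (q : SheafOfModules.QuasicoherentData.{u} (R := ModSite.ringSh O) F)
    (q' : SheafOfModules.QuasicoherentData.{u} (R := ModSite.ringSh O) G) :
    ∃ d : SheafOfModules.QuasicoherentData.{u} (R := ModSite.ringSh O) (tn F G),
      q.IsFinitePresentation → q'.IsFinitePresentation → d.IsFinitePresentation := by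
  choose r hr using fun p : q.I × q'.I => exists_presentation (O := O.over (q.X p.1 ⨯ q'.X p.2))
    (restrictPres prod.fst (q.presentation p.1)) (restrictPres prod.snd (q'.presentation p.2))
  let d : SheafOfModules.QuasicoherentData.{u} (R := ModSite.ringSh O) (tn F G) :=
    { I := q.I × q'.I
      X := fun p => q.X p.1 ⨯ q'.X p.2
      coversTop := coversTop_prod q.coversTop q'.coversTop
      presentation := fun p => (r p).ofIsIso (overTensor _ F G).hom }
  refine ⟨d, fun h h' => ?_⟩
  have hd : ∀ p : q.I × q'.I, ((r p).ofIsIso (overTensor _ F G).hom).IsFinite := fun p =>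
    haveI := hr p (isFinite_restrictPres _ _ (h.isFinite_presentation p.1))
      (isFinite_restrictPres _ _ (h'.isFinite_presentation p.2))
    inferInstance
  exact { isFinite_presentation := hd }

theorem isQuasicoherent_tensor (hF : SheafOfModules.IsQuasicoherent (R := ModSite.ringSh O) F)
    (hG : SheafOfModules.IsQuasicoherent (R := ModSite.ringSh O) G) :
    SheafOfModules.IsQuasicoherent (R := ModSite.ringSh O) (tn F G) := by
  obtain ⟨q⟩ := hF.nonempty_quasicoherentData
  obtain ⟨q'⟩ := hG.nonempty_quasicoherentData
  exact (exists_tensorQC q q').choose.isQuasicoherent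

theorem isFinitePresentation_tensor (hF : SheafOfModules.IsFinitePresentation (R := ModSite.ringSh O) F)
    (hG : SheafOfModules.IsFinitePresentation (R := ModSite.ringSh O) G) :
    SheafOfModules.IsFinitePresentation (R := ModSite.ringSh O) (tn F G) := by
  obtain ⟨q, hq⟩ := hF.exists_quasicoherentData
  obtain ⟨q', hq'⟩ := hG.exists_quasicoherentData
  obtain ⟨d, hd⟩ := exists_tensorQC q q'
  exact { exists_quasicoherentData := ⟨d, hd hq hq'⟩ }

end GrothLib.TensPres25
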